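import Groth.Agent.Lib.PerfPic.Basic
import Groth.Agent.Lib.Ample.Pullback
import Groth.Agent.Lib.Lim.Thickening
import Groth.Agent.Lib.TensorMod.QCohInv

/-!
Ampleness can be checked on a closed subscheme with the same points.
-/

set_option autoImplicit false
set_option linter.style.haveILetI false

noncomputable section

universe u

open CategoryTheory CategoryTheory.Limits AlgebraicGeometry Opposite TopologicalSpace

namespace Groth.Agent.Lib.AmpleThick.Basic

open Groth.Agent.Lib.TensorMod Groth.Agent.Lib.TensorMod.Dual Groth.Agent.Lib.TensorMod.Gen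
  Groth.Agent.Lib.Ample.GenLocus Groth.Agent.Lib.Ample.Extend Groth.Agent.Lib.TensorMod.Pullback
  Groth.Agent.Lib.Perfection.Sections

variable {Z X : Scheme.{u}} (i : Z ⟶ X) [IsClosedImmersion i] [Surjective i]

theorem preimage_injective {U V : X.Opens} (h : i ⁻¹ᵁ U = i ⁻¹ᵁ V) : U = V := by
  refine Opens.ext (Set.preimage_injective.2 i.surjective ?_)
  exact congrArg (fun W : Z.Opens => (W : Set Z)) h

/-- Functions vanishing on a closed subscheme with the same points are nilpotent. -/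
theorem isNilpotent_of_app_eq_zero {W : X.Opens} (hW : IsAffineOpen W) (z : Γ(X, W)) (h : i.app W z = 0) :
    IsNilpotent z := by
  have hb : X.basicOpen z = ⊥ := by
    refine preimage_injective i ?_
    rw [Scheme.preimage_basicOpen, h, Scheme.basicOpen_zero]
    rfl
  haveI : Subsingleton Γ(X, X.basicOpen z) := by
    rw [hb]
    exact CommRingCat.subsingleton_of_isTerminal X.sheaf.isTerminalOfEmpty
  obtain ⟨n, hn⟩ := exists_of_res_eq_of_qcqs hW.isCompact hW.isQuasiSeparated
    (f := 1) (g := 0) (s := z) (Subsingleton.elim _ _)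
  exact ⟨n, by simpa using hn⟩

omit [IsClosedImmersion i] [Surjective i] in
/-- If `δ` is nilpotent, high powers of `a + δ` on `D(a)` extend to multiples of `a`. -/
theorem exists_pow_ext {U : X.Opens} (hU : IsAffineOpen U) (a : Γ(X, U)) (δ : Γ(X, X.basicOpen a))
    (hδ : IsNilpotent δ) :
    ∃ N₀ : ℕ, ∀ N, N₀ ≤ N → ∃ c : Γ(X, U),
      rf (X.basicOpen_le a) (a * c) = (rf (X.basicOpen_le a) a + δ) ^ N := by
  obtain ⟨q, hq⟩ := hδ
  let _ : Algebra Γ(X, U) Γ(X, X.basicOpen a) := (X.presheaf.map (homOfLE (X.basicOpen_le a)).op).hom.toAlgebra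
  haveI : IsLocalization.Away a Γ(X, X.basicOpen a) := hU.isLocalization_of_eq_basicOpen a _ rfl
  have key : ∀ l, ∃ (m : ℕ) (r : Γ(X, U)),
      rf (X.basicOpen_le a) r = δ ^ l * rf (X.basicOpen_le a) a ^ m := fun l => by
    obtain ⟨⟨r, ⟨_, m, rfl⟩⟩, hr⟩ := IsLocalization.surj (Submonoid.powers a) (δ ^ l)
    refine ⟨m, r, hr.symm.trans ?_⟩
    simp only [map_pow]
    rfl
  choose m r hr using key
  let M := (Finset.range q).sup m
  refine ⟨q + M + 1, fun N hN => ?_⟩
  refine ⟨∑ l ∈ Finset.range q, (N.choose l : Γ(X, U)) * a ^ (N - l - 1 - m l) * r l, ?_⟩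
  have hsub : Finset.range q ⊆ Finset.range (N + 1) := Finset.range_mono (by omega)
  rw [add_comm, add_pow, ← Finset.sum_subset hsub (fun l _ hl => by
    rw [Finset.mem_range, not_lt] at hl
    rw [pow_eq_zero_of_le hl hq, zero_mul, zero_mul])]
  simp only [rf, map_mul, map_sum, map_pow, map_natCast, Finset.mul_sum]
  refine Finset.sum_congr rfl fun l hl => ?_
  have hm : m l ≤ M := Finset.le_sup hl
  rw [Finset.mem_range] at hl
  have h1 : ∀ A : Γ(X, X.basicOpen a), A ^ (N - l) = A * A ^ (N - l - 1 - m l) * A ^ m l := fun A => by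
    conv_lhs => rw [show N - l = 1 + (N - l - 1 - m l) + m l by omega]
    rw [pow_add, pow_add, pow_one]
  have h2 := hr l
  simp only [rf] at h2
  rw [h1, h2]
  ring

omit [IsClosedImmersion i] [Surjective i] in
/-- Equal on `D(a)` and multiples of `a`: high powers are equal. -/
theorem exists_pow_eq {W : X.Opens} (hW : IsCompact (W : Set X)) (hW' : IsQuasiSeparated (W : Set X))
    (α β : Γ(X, W)) (hb : X.basicOpen α = X.basicOpen β) (x' y' : Γ(X, W))
    (h : rf (X.basicOpen_le α) (α * x') = rf (X.basicOpen_le α) (β * y')) :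
    ∃ k₀ : ℕ, ∀ K, k₀ ≤ K → (α * x') ^ K = (β * y') ^ K := by
  obtain ⟨k₁, hk₁⟩ := exists_of_res_eq_of_qcqs hW hW' (f := α * x') (g := β * y') (s := α) h
  have h' : (α * x') |_ X.basicOpen β = (β * y') |_ X.basicOpen β := by
    have := congrArg (rf hb.ge) h
    simp only [rf_rf] at this
    exact this
  obtain ⟨k₂, hk₂⟩ := exists_of_res_eq_of_qcqs hW hW' (f := α * x') (g := β * y') (s := β) h'
  refine ⟨k₁ + k₂ + 1, fun K hK => ?_⟩
  have h1 : α ^ k₁ * (α * x' - β * y') = 0 := by rw [mul_sub, hk₁, sub_self]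
  have h2 : β ^ k₂ * (α * x' - β * y') = 0 := by rw [mul_sub, hk₂, sub_self]
  rw [← sub_eq_zero, ← geom_sum₂_mul, Finset.sum_mul]
  refine Finset.sum_eq_zero fun l hl => ?_
  rw [Finset.mem_range] at hl
  rcases le_or_gt k₁ l with hc | hc
  · rw [mul_pow, ← Nat.sub_add_cancel hc, pow_add α]
    linear_combination (α ^ (l - k₁) * x' ^ (l - k₁ + k₁) * (β * y') ^ (K - 1 - (l - k₁ + k₁))) * h1
  · rw [mul_pow β, ← Nat.sub_add_cancel (show k₂ ≤ K - 1 - l by omega), pow_add β]
    linear_combination ((α * x') ^ l * β ^ (K - 1 - l - k₂) * y' ^ (K - 1 - l - k₂ + k₂)) * h2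

omit [IsClosedImmersion i] [Surjective i] in
theorem unitSec_sum {M : X.Modules} {W : X.Opens} {κ : Type*} (s : Finset κ) (f : κ → Γ(M, W)) :
    unitSec i M (∑ k ∈ s, f k) = ∑ k ∈ s, unitSec i M (f k) :=
  map_sum (((pbAdj i).unit.app M).app W).hom _ _

omit [IsClosedImmersion i] [Surjective i] in
theorem rs_sum {M : X.Modules} {V W : X.Opens} (h : V ≤ W) {κ : Type*} (s : Finset κ) (f : κ → Γ(M, W)) :
    rs M h (∑ k ∈ s, f k) = ∑ k ∈ s, rs M h (f k) :=
  map_sum (M.presheaf.map (homOfLE h).op).hom _ _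

omit [Surjective i] in
/-- A lift on `D(f)` gives a lift of a multiple. -/
theorem exists_lift_pow {M : X.Modules} [M.IsQuasicoherent] [((pb i).obj M).IsQuasicoherent]
    {U : X.Opens} (hU : IsAffineOpen U) (f : Γ(X, U)) (σ : Γ((pb i).obj M, i ⁻¹ᵁ U))
    (τ : Γ(M, X.basicOpen f)) (hτ : unitSec i M τ = rs _ (i.preimage_mono (X.basicOpen_le f)) σ) :
    ∃ (n : ℕ) (t : Γ(M, U)), unitSec i M t = i.app U f ^ n • σ := by
  obtain ⟨n, t, ht⟩ := (QCoh.Localizing.localizes_of_isAffineOpen M hU f).ext' (τ)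
  have hz : rs ((pb i).obj M) (i.preimage_mono (X.basicOpen_le f)) (unitSec i M t - i.app U f ^ n • σ) = 0 := by
    have h1 := congrArg (unitSec i M) ht
    change unitSec i M (rs M (X.basicOpen_le f) t) = unitSec i M (_ • τ) at h1
    erw [← unitSec_rs i (X.basicOpen_le f) t, unitSec_smul, hτ] at h1
    refine (map_sub (((pb i).obj M).presheaf.map (homOfLE _).op).hom _ _).trans (sub_eq_zero.2 ?_)
    refine h1.trans (Eq.trans ?_ (rs_smul _ _ _ _).symm)
    congr 1
    simp only [rf, map_pow, app_res]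
  have hle := Scheme.preimage_basicOpen i f
  obtain ⟨m, hm⟩ := (QCoh.Localizing.localizes_of_isAffineOpen ((pb i).obj M) (hU.preimage i) (i.app U f)).sep.exists_of_eq
    hle (i.preimage_mono (X.basicOpen_le f)) _ hz
  refine ⟨n + m, f ^ m • t, ?_⟩
  rw [unitSec_smul, map_pow]
  rw [smul_sub, sub_eq_zero, smul_smul, ← pow_add, add_comm] at hm
  exact hm

omit [Surjective i] in
/-- Sections of an invertible module over an affine open lift from a closed subscheme. -/
theorem exists_lift {M : X.Modules} (hM : PicF.IsInvertible M) {U : X.Opens} (hU : IsAffineOpen U)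
    (σ : Γ((pb i).obj M, i ⁻¹ᵁ U)) : ∃ t : Γ(M, U), unitSec i M t = σ := by
  haveI : M.IsQuasicoherent := QCohInv.isQCoh_of_isInvertible hM
  haveI : ((pb i).obj M).IsQuasicoherent := QCohInv.isQCoh_of_isInvertible (PicLoc.isInvertible_pullback i hM)
  have key : ∀ x : U, ∃ f : Γ(X, U), x.1 ∈ X.basicOpen f ∧ ∃ τ : Γ(M, X.basicOpen f),
      unitSec i M τ = rs _ (i.preimage_mono (X.basicOpen_le f)) σ := fun x => by
    obtain ⟨W, e, hx, he⟩ := isInvertible_iff.1 hM x.1
    obtain ⟨f, hfle, hxf⟩ := hU.exists_basicOpen_le (V := W) ⟨x.1, hx⟩ x.2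
    refine ⟨f, hxf, ?_⟩
    have heD := he.res hfle
    obtain ⟨c, hc⟩ := exists_coord (isGen_unitSec i heD) (rs _ (i.preimage_mono (X.basicOpen_le f)) σ)
    obtain ⟨c', rfl⟩ := i.app_surjective _ (hU.basicOpen f) c
    exact ⟨c' • rs M hfle e, by rw [hc]; exact unitSec_smul i c' _⟩
  choose f hxf τ hτ using key
  obtain ⟨T, hT⟩ := hU.isCompact.elim_finite_subcover (fun x : U => (X.basicOpen (f x) : Set X))
    (fun x => (X.basicOpen (f x)).2) (fun y hy => Set.mem_iUnion.2 ⟨⟨y, hy⟩, hxf _⟩)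
  have hext : ∀ x : U, ∃ (n : ℕ) (t : Γ(M, U)), unitSec i M t = i.app U (f x) ^ n • σ :=
    fun x => exists_lift_pow i hU (f x) σ (τ x) (hτ x)
  choose n t ht using hext
  have hspan : Ideal.span ((fun x => f x ^ n x) '' (↑T : Set _)) = ⊤ := by
    rw [← hU.self_le_iSup_basicOpen_iff]
    intro y hy
    obtain ⟨x, hx, hxy⟩ := Set.mem_iUnion₂.1 (hT hy)
    refine Opens.mem_iSup.2 ⟨⟨_, x, hx, rfl⟩, ?_⟩
    change y ∈ X.basicOpen (f x ^ n x)
    rcases Nat.eq_zero_or_pos (n x) with h0 | h0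
    · rw [h0, pow_zero, Scheme.basicOpen_of_isUnit _ isUnit_one]; exact hy
    · rw [X.basicOpen_pow (f x) h0]; exact hxy
  obtain ⟨h, hh⟩ := (Submodule.mem_span_image_finset_iff_exists_fun' (R := Γ(X, U))).1
    ((Ideal.eq_top_iff_one _).1 hspan)
  refine ⟨∑ x ∈ T, h x • t x, ?_⟩
  rw [unitSec_sum]
  simp only [unitSec_smul, ht, smul_smul, ← map_pow, ← map_mul]
  rw [← Finset.sum_smul, ← map_sum]
  simp only [smul_eq_mul] at hh
  rw [hh, map_one, one_smul]

/-- A generating section over the preimage of an affine open gives one of a power over the base. -/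
theorem exists_sec [CompactSpace X] [QuasiSeparatedSpace X] {M : X.Modules} (hM : PicF.IsInvertible M)
    (s : Coh.structureModule Z ⟶ (pb i).obj M) (U : X.Opens) (hU : IsAffineOpen U)
    (hpre : i ⁻¹ᵁ U = CohB1.genLocus _ s) :
    ∃ K : ℕ, 0 < K ∧ ∃ t : Coh.structureModule X ⟶ CohB1.tensorPow M K, CohB1.genLocus _ t = U := by
  obtain ⟨ι, _, V, e, hcov, hV, he⟩ := PerfPic.Basic.exists_affine_frames hM
  have := Fintype.ofFinite ι
  choose u hu using fun k l => exists_coord ((he l).res (inf_le_right : V k ⊓ V l ≤ V l))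
    (rs M (inf_le_left : V k ⊓ V l ≤ V k) (e k))
  choose c hc using fun k => exists_coord (isGen_unitSec i (he k)) (sv s (i ⁻¹ᵁ V k))
  choose a ha using fun k => i.app_surjective _ (hV k) (c k)
  have hD : ∀ k, X.basicOpen (a k) = U ⊓ V k := fun k => by
    refine preimage_injective i ?_
    rw [Scheme.Hom.preimage_inf, hpre, Scheme.preimage_basicOpen, ha,
      genLocus_inf_eq (isGen_unitSec i (he k)) s (hc k)]
  have hDU : ∀ k, X.basicOpen (a k) ≤ U := fun k => (hD k).trans_le inf_le_left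
  obtain ⟨t₀, ht₀⟩ := exists_lift i hM hU (sv s (i ⁻¹ᵁ U))
  choose b hb using fun k => exists_coord ((he k).res (X.basicOpen_le (a k))) (rs M (hDU k) t₀)
  have hδ : ∀ k, IsNilpotent (b k - rf (X.basicOpen_le (a k)) (a k)) := fun k => by
    refine isNilpotent_of_app_eq_zero i ((hV k).basicOpen _) _ ?_
    rw [map_sub, sub_eq_zero]
    have h1 := congrArg (unitSec i M) (hb k)
    erw [← unitSec_rs i (hDU k) t₀, ht₀, rs_sv, unitSec_smul, ← unitSec_rs i (X.basicOpen_le (a k)) (e k)] at h1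
    have h2 := congrArg (rs _ (i.preimage_mono (X.basicOpen_le (a k)))) (hc k)
    rw [rs_sv, rs_smul] at h2
    refine ((isGen_unitSec i (he k)) _ (i.preimage_mono (X.basicOpen_le (a k)))).1 (h1.symm.trans (h2.trans ?_))
    congr 1
    rw [← ha]
    exact (app_res i (X.basicOpen_le (a k)) (a k)).symm
  choose N₀ hN₀ using fun k => exists_pow_ext (hV k) (a k) _ (hδ k)
  let N := Finset.univ.sup N₀ + 1
  choose c' hc' using fun k => hN₀ k N ((Finset.le_sup (Finset.mem_univ k)).trans (Nat.le_succ _))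
  simp only [add_sub_cancel] at hc'
  have hpair : ∀ q : ι × ι, ∃ k₀ : ℕ, ∀ K, k₀ ≤ K →
      (rf inf_le_left (a q.1 * c' q.1) * u q.1 q.2 ^ N) ^ K =
        (rf (inf_le_right : V q.1 ⊓ V q.2 ≤ V q.2) (a q.2 * c' q.2)) ^ K := fun ⟨k, l⟩ => by
    let W := V k ⊓ V l
    have hWc : IsCompact (W : Set X) :=
      QuasiSeparatedSpace.inter_isCompact _ _ (V k).2 (hV k).isCompact (V l).2 (hV l).isCompact
    have hb' : X.basicOpen (rf (inf_le_left : W ≤ V k) (a k)) = X.basicOpen (rf (inf_le_right : W ≤ V l) (a l)) := by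
      simp only [rf]
      erw [X.basicOpen_res, X.basicOpen_res, hD, hD]
      refine Opens.ext (Set.ext fun z => ?_)
      simp only [W, Opens.coe_inf, Set.mem_inter_iff, SetLike.mem_coe]
      tauto
    let D := X.basicOpen (rf (inf_le_left : W ≤ V k) (a k))
    have hDk : D ≤ X.basicOpen (a k) := (X.basicOpen_res (a k) (homOfLE inf_le_left).op).trans_le inf_le_right
    have hDl : D ≤ X.basicOpen (a l) := hb'.trans_le
      ((X.basicOpen_res (a l) (homOfLE inf_le_right).op).trans_le inf_le_right)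
    have hDW : D ≤ W := X.basicOpen_le _
    have hbu : rf hDk (b k) * rf hDW (u k l) = rf hDl (b l) := by
      refine ((he l) D (hDW.trans inf_le_right)).1 ?_
      have h1 := congrArg (rs M hDk) (hb k)
      have h2 := congrArg (rs M hDl) (hb l)
      have h3 := congrArg (rs M hDW) (hu k l)
      rw [rs_rs, rs_smul, rs_rs] at h1 h2
      rw [rs_rs, rs_smul, rs_rs] at h3
      show _ • _ = _ • _
      rw [mul_smul, ← h3]
      exact h1.symm.trans h2
    obtain ⟨k₀, hk₀⟩ := exists_pow_eq hWc (IsQuasiSeparated.of_quasiSeparatedSpace _)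
      (rf (inf_le_left : W ≤ V k) (a k)) (rf (inf_le_right : W ≤ V l) (a l)) hb'
      (rf (inf_le_left : W ≤ V k) (c' k) * u k l ^ N) (rf (inf_le_right : W ≤ V l) (c' l)) (by
        have h1 := congrArg (rf hDk) (hc' k)
        have h2 := congrArg (rf hDl) (hc' l)
        simp only [rf, map_mul, map_pow] at h1 h2 hbu ⊢
        simp only [← rf.eq_def, rf_rf] at h1 h2 hbu ⊢
        rw [← mul_assoc, h1, h2, ← mul_pow, hbu])
    refine ⟨k₀, fun K hK => ?_⟩
    have h4 := hk₀ K hK
    simp only [rf, map_mul, mul_assoc] at h4 ⊢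
    exact h4
  choose k₀ hk₀ using hpair
  let K := Finset.univ.sup k₀ + 1
  obtain ⟨g, hg⟩ := PerfPic.Basic.exists_glue hcov (fun k => powSec (e k) (N * K)) (fun k => (a k * c' k) ^ K)
    fun k l => ⟨u k l ^ (N * K), by rw [rs_powSec, rs_powSec, hu, powSec_smul], by
      have h1 := hk₀ (k, l) K ((Finset.le_sup (Finset.mem_univ _)).trans (Nat.le_succ _))
      rw [mul_pow, ← pow_mul] at h1
      simp only [rf, map_pow] at h1 ⊢
      exact h1⟩
  obtain ⟨t, ht⟩ := exists_hom_of_sec (L := CohB1.tensorPow M (N * K)) g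
  refine ⟨N * K, Nat.mul_pos (Nat.succ_pos _) (Nat.succ_pos _), t, ?_⟩
  have key : ∀ k, CohB1.genLocus _ t ⊓ V k = U ⊓ V k := fun k => by
    rw [genLocus_inf_eq (isGen_powSec (he k) _) t (by rw [← rs_sv t (le_top : V k ≤ ⊤), ht, hg]), ← hD,
      X.basicOpen_pow _ (Nat.succ_pos _)]
    refine le_antisymm ((X.basicOpen_mul (a k) (c' k)).trans_le inf_le_left) ?_
    have hun : IsUnit (rf (X.basicOpen_le (a k)) (a k * c' k)) := by
      rw [hc']
      refine IsUnit.pow _ ?_
      rw [← add_sub_cancel (rf (X.basicOpen_le (a k)) (a k)) (b k)]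
      exact (hδ k).isUnit_add_left_of_commute (RingedSpace.isUnit_res_basicOpen _ (a k)) (Commute.all _ _)
    have h5 := X.basicOpen_of_isUnit hun
    rw [rf, X.basicOpen_res] at h5
    exact h5.ge.trans inf_le_right
  refine Opens.ext (Set.ext fun z => ?_)
  obtain ⟨k, hk⟩ := Opens.mem_iSup.1 (show z ∈ iSup V by rw [hcov]; trivial)
  have h1 := SetLike.ext_iff.1 (key k) z
  exact ⟨fun h => (h1.1 ⟨h, hk⟩).1, fun h => (h1.2 ⟨h, hk⟩).1⟩

theorem isAmple_of_pullback (hi : IsHomeomorph i.base) {L : X.Modules} (hL : PicF.IsInvertible L)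
    (hA : CohB1.IsAmple ((pb i).obj L)) : CohB1.IsAmple L := by
  haveI := Ample.Pullback.quasiSeparatedSpace_of_isAmple hA
  haveI : CompactSpace Z := hA.2.1
  haveI : CompactSpace X := hi.homeomorph.compactSpace
  haveI : QuasiSeparatedSpace X :=
    QuasiSeparatedSpace.of_isOpenEmbedding hi.homeomorph.symm.isOpenEmbedding
  refine Ample.Pow.isAmple_iff.2 ⟨hL, inferInstance, fun x => ?_⟩
  obtain ⟨z, rfl⟩ := i.surjective x
  obtain ⟨d, hd, s, hzs, hs⟩ := (Ample.Pow.isAmple_iff.1 hA).2.2 z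
  let M := CohB1.tensorPow L d
  let s' : Coh.structureModule Z ⟶ (pb i).obj M := s ≫ (Ample.Pow.pullbackPow i L d).inv
  have hs' : CohB1.genLocus _ s' = CohB1.genLocus _ s := genLocus_comp_iso s (Ample.Pow.pullbackPow i L d).symm
  let U : X.Opens := ⟨i.base '' (CohB1.genLocus _ s : Set Z), hi.isOpenMap _ (CohB1.genLocus _ s).2⟩
  have hpre : i ⁻¹ᵁ U = CohB1.genLocus _ s := Opens.ext (hi.injective.preimage_image _)
  have hU : IsAffineOpen U := by
    haveI : IsAffine (i ⁻¹ᵁ U : Scheme.{u}) := hpre ▸ hs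
    haveI : IsClosedImmersion (i ∣_ U) := IsZariskiLocalAtTarget.restrict ‹IsClosedImmersion i› U
    haveI : Surjective (i ∣_ U) := IsZariskiLocalAtTarget.restrict ‹Surjective i› U
    exact Lim.Thickening.isAffine_of_surjective (i ∣_ U)
  obtain ⟨K, hK, t, ht⟩ := exists_sec i (Invertible.isInvertible_tensorPow hL d) s' U hU (hpre.trans hs'.symm)
  exact Ample.Pow.AffineAt.mk (Nat.mul_pos hd hK) (Ample.Pow.powMul L d K) t
    (ht.ge ⟨z, hzs, rfl⟩) (ht ▸ hU)

end Groth.Agent.Lib.AmpleThick.Basic
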